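import Cfsg.Agent.Omega.TC.VBang
import Cfsg.Agent.Omega.NO3S.EThree.FrQOf

/-!
# (V!) at every stage, every `k`, every `q`

`StgP S P K B ZJ`, `B ≤ T ≤ S`:

* `bang_le` : `V^!(T) ≤ Z_J`;
* `exists_offM` : every `T`-invariant elementary abelian `X ≤ T`, `X ≰ Z_J` has an offender in `T`;
* `exists_off` : the same with the cardinalities written out (`T = B`: the form of #23328 / #23468 (4)).
-/

set_option autoImplicit false

namespace Cfsg.Agent.Omega.TCQ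

open Subgroup Cfsg Cfsg.Agent.ZN.ChoiceBase
open Cfsg.Agent.ZN (jj zj bau zc zl o2)
open Cfsg.Agent.Omega.FFThm (OffM ElemM)
open Cfsg.Agent.Omega.NO3b.Bang
open Cfsg.Agent.Omega.NO3S.Level (lev nxt BO)
open Cfsg.Agent.Omega.OM
open Cfsg.Agent.Omega.Node.MultiOf

universe u

variable {G : Type u} [Group G] [Finite G]

section stg

variable {S : Sylow 2 G} {P K B ZJ T X : Subgroup G}

/-- **(V!)** `V^!(T) ≤ Z_J` for `B ≤ T ≤ S`, all stages. -/
theorem bang_le (h : StgP S P K B ZJ) (hBT : B ≤ T) (hTS : T ≤ (S : Subgroup G)) : bang T ≤ ZJ := by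
  have hKT : K ≤ T := h.lb.KB.trans hBT
  have hN := nn_bang T
  cases h with
  | neg hj =>
    have h1 := TC.NN_le_zc_jj hN
    rw [jj_eq_of_jj_le hKT hTS] at h1
    exact h1
  | lev n hall hn hn1 => exact TC.NN_le_zc_lev hTS hN (n + 1) hKT

/-- **(V!)**, offenders. -/
theorem exists_offM (h : StgP S P K B ZJ) (hBT : B ≤ T) (hTS : T ≤ (S : Subgroup G)) (hXT : X ≤ T)
    (hn : T ≤ normalizer (X : Set G)) (hc : X ≤ centralizer (X : Set G)) (h2 : ∀ x ∈ X, x ^ 2 = 1)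
    (hX : ¬ X ≤ ZJ) : ∃ A : Subgroup G, A ≤ T ∧ OffM X A := by
  by_contra hcon
  push Not at hcon
  exact hX ((NN.le_bang ⟨hXT, hn, hc, h2, hcon⟩).trans (bang_le h hBT hTS))

/-- **(V!)**, offenders, the cardinalities written out. -/
theorem exists_off (h : StgP S P K B ZJ) (hBT : B ≤ T) (hTS : T ≤ (S : Subgroup G)) (hXT : X ≤ T)
    (hn : T ≤ normalizer (X : Set G)) (hc : X ≤ centralizer (X : Set G)) (h2 : ∀ x ∈ X, x ^ 2 = 1)
    (hX : ¬ X ≤ ZJ) : ∃ A : Subgroup G, A ≤ T ∧ OffM X A ∧ ¬ A ≤ centralizer (X : Set G) ∧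
      Nat.card X * Nat.card ↥(A ⊓ centralizer (X : Set G)) ≤
        Nat.card A * Nat.card ↥(X ⊓ centralizer (A : Set G)) := by
  obtain ⟨A, hA, hO⟩ := exists_offM h hBT hTS hXT hn hc h2 hX
  exact ⟨A, hA, hO, hO.ne, hO.le⟩

end stg

section mul

variable {S : Sylow 2 G} {P K B ZJ X : Subgroup G} {k q : ℕ} {L W Z C : Fin k → Subgroup G}

/-- **(V!) over `Mul`, `T = B`, every stage, every `k`, every `q`.** -/
theorem exists_off_B (h : Mul S P K B ZJ L W Z C q) (hXB : X ≤ B) (hn : B ≤ normalizer (X : Set G))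
    (hc : X ≤ centralizer (X : Set G)) (h2 : ∀ x ∈ X, x ^ 2 = 1) (hX : ¬ X ≤ ZJ) :
    ∃ A : Subgroup G, A ≤ B ∧ OffM X A ∧ ¬ A ≤ centralizer (X : Set G) ∧
      Nat.card X * Nat.card ↥(A ⊓ centralizer (X : Set G)) ≤
        Nat.card A * Nat.card ↥(X ⊓ centralizer (A : Set G)) :=
  exists_off h.stg le_rfl h.lb.BS hXB hn hc h2 hX

end mul

section two

variable {S : Sylow 2 G} {P K B ZJ X : Subgroup G} {q : ℕ} {L W Z C : Fin 2 → Subgroup G}

/-- **(V!) for `k = 2`, `T = B`, every stage, every `q`** (literal of #23468 (4)). -/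
theorem exists_off_two (h : Mul S P K B ZJ L W Z C q) (hXB : X ≤ B) (hn : B ≤ normalizer (X : Set G))
    (hc : X ≤ centralizer (X : Set G)) (h2 : ∀ x ∈ X, x ^ 2 = 1) (hX : ¬ X ≤ Z 0 ⊔ Z 1) :
    ∃ A : Subgroup G, A ≤ B ∧ OffM X A ∧ ¬ A ≤ centralizer (X : Set G) ∧
      Nat.card X * Nat.card ↥(A ⊓ centralizer (X : Set G)) ≤
        Nat.card A * Nat.card ↥(X ⊓ centralizer (A : Set G)) :=
  exists_off_B h hXB hn hc h2 (by rwa [NO3S.EThree.BgQ.ZJ_eq h.bg])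

end two

end Cfsg.Agent.Omega.TCQ
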