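import Cfsg.Agent.Omega.TC.Int
import Cfsg.Agent.Omega.NO3S.EThree.RtQ

/-!
# THE COUNT: (1b) of THEOREM N (helper381 #23328; = (2) (R2) of helper997 #23470), every `q`

`A ∈ AA O`, `A_b = C_A(N)`; `F ≤ O` elementary abelian, `A`-invariant, centralising `N`; `n ∈ F`, `y ≤ F`,
`y ∩ N = 1`, `[y, A] ≤ N`, `A` moves `y`, `C_A(u) = C_A(y)` for `u ∈ y#`, `[n, A_b] ≤ y` : `A_b` centralises `n`.

* `cnt` : this; `cnt_all` : the same for every member of a family of pairs `(n, y)` (`X^A := ⟨N, n_y⟩`, `[X^A, A_b] = 1`);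
* `card_le_relIndex` : `|y| ≤ |A : C_A(y)|` for `A ∈ AA O` moving `y`.
-/

set_option autoImplicit false
set_option linter.unusedSectionVars false

namespace Cfsg.Agent.Omega.TCQ.Cnt

open Subgroup Cfsg Cfsg.Agent.ZN
open Cfsg.Agent.Omega.NoFF.Basic (comm_symm)
open Cfsg.Agent.ZN.ChoiceBase (AA)
open Cfsg.Agent.Omega.NO3S.EThree (relIndex_le_of le_relIndex_of)
open Cfsg.Agent.Omega.NO3S.EThree.ExactA (eab_iff eab_mono eab_sup swp)
open Cfsg.Agent.Omega.NO3S.ML (card_mul_relIndex card_sup_mul_of_comm)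
open Cfsg.Agent.Omega.OM.PG.Int (rix_ne)

universe u

variable {G : Type u} [Group G] [Finite G]

/-- `|y| ≤ |A : C_A(y)|` for `A ∈ AA O` moving the elementary abelian `y ≤ O`, `C_A(u) = C_A(y)` for `u ∈ y#`. -/
theorem card_le_relIndex {O A y : Subgroup G} (hA : A ∈ AA O) (hy : IsElementaryAbelian 2 y) (hyO : y ≤ O)
    (hst : ∀ u ∈ y, u ≠ 1 → ∀ a ∈ A, a * u = u * a → a ∈ centralizer (y : Set G))
    (hmv : ¬ A ≤ centralizer (y : Set G)) :
    Nat.card y ≤ (centralizer (y : Set G)).relIndex A := by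
  have hAc := (eab_iff.1 hA.1).1
  set K := A ⊓ centralizer (y : Set G) with hK
  have hKy : K ⊓ y = ⊥ := by
    rw [eq_bot_iff]
    rintro u ⟨hu, huy⟩
    by_contra h
    rw [mem_bot] at h
    exact hmv fun a ha => hst u huy h a ha (mem_centralizer_iff.1 (hAc ha) u hu.1).symm
  have h1 : IsElementaryAbelian 2 (K ⊔ y : Subgroup G) := eab_sup (eab_mono hA.1 inf_le_left) hy inf_le_right
  have h2 : Nat.card (K ⊔ y : Subgroup G) ≤ Nat.card A := hA.2.2 _ h1 (sup_le (inf_le_left.trans hA.2.1) hyO)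
  have h3 : Nat.card (K ⊔ y : Subgroup G) * Nat.card (K ⊓ y : Subgroup G) = Nat.card K * Nat.card y :=
    card_sup_mul_of_comm fun a ha b hb => (mem_centralizer_iff.1 ((inf_le_right : K ≤ _) ha) b hb).symm
  rw [hKy, card_bot, mul_one] at h3
  have h4 := card_mul_relIndex (inf_le_left : K ≤ A)
  have h5 : K.relIndex A = (centralizer (y : Set G)).relIndex A := inf_relIndex_left _ _
  rw [h5] at h4
  rw [h3, ← h4] at h2
  exact Nat.le_of_mul_le_mul_left h2 Nat.card_pos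

/-- **THE COUNT** ((1b) of THEOREM N). -/
theorem cnt {O A N F y : Subgroup G} {n : G} (hA : A ∈ AA O)
    (hC : (A ⊓ centralizer (N : Set G)) ⊔ N ∈ AA O)
    (hF : IsElementaryAbelian 2 F) (hFO : F ≤ O) (hFN : F ≤ centralizer (N : Set G))
    (hAF : ∀ a ∈ A, ∀ f ∈ F, a * f * a⁻¹ ∈ F) (hn : n ∈ F) (hyF : y ≤ F) (hyN : y ⊓ N = ⊥)
    (hyA : ∀ a ∈ A, ∀ u ∈ y, a * u * a⁻¹ * u⁻¹ ∈ N)
    (hst : ∀ u ∈ y, u ≠ 1 → ∀ a ∈ A, a * u = u * a → a ∈ centralizer (y : Set G))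
    (hmv : ¬ A ≤ centralizer (y : Set G))
    (hb : ∀ c ∈ A, c ∈ centralizer (N : Set G) → n * c * n⁻¹ * c⁻¹ ∈ y) :
    ∀ c ∈ A, c ∈ centralizer (N : Set G) → c * n = n * c := by
  classical
  by_contra hcon
  push Not at hcon
  obtain ⟨c, hc, hcN, hcn⟩ := hcon
  have hAc : ∀ a ∈ A, ∀ b ∈ A, a * b = b * a := fun a ha b hb' =>
    (mem_centralizer_iff.1 ((eab_iff.1 hA.1).1 ha) b hb').symm
  have hFc : ∀ a ∈ F, ∀ b ∈ F, a * b = b * a := fun a ha b hb' =>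
    (mem_centralizer_iff.1 ((eab_iff.1 hF).1 ha) b hb').symm
  set u : G := n * c * n⁻¹ * c⁻¹ with hu
  have huy : u ∈ y := hb c hc hcN
  have huF : u ∈ F := hyF huy
  have hu1 : u ≠ 1 := by
    intro h
    apply hcn
    rw [hu] at h
    exact (mul_inv_eq_iff_eq_mul.1 (mul_inv_eq_one.1 h)).symm
  have huN : u ∉ N := by
    intro h
    have h1 : u ∈ y ⊓ N := ⟨huy, h⟩
    rw [hyN, mem_bot] at h1
    exact hu1 h1
  -- `X = ⟨n^A⟩`
  let X : Subgroup G := closure {x | ∃ a ∈ A, x = a * n * a⁻¹}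
  have hXF : X ≤ F := by
    refine (closure_le _).2 ?_
    rintro x ⟨a, ha, rfl⟩
    exact hAF a ha n hn
  have hXe : IsElementaryAbelian 2 X := eab_mono hF hXF
  have hgen : ∀ a ∈ A, a * n * a⁻¹ ∈ X := fun a ha => subset_closure ⟨a, ha, rfl⟩
  -- `C_{A_b}(n) = C_{A_b}(X)`
  have hnX : ∀ b ∈ A, b * n = n * b → b ∈ centralizer (X : Set G) := by
    intro b hbA hbn
    have h1 : X ≤ centralizer ({b} : Set G) := by
      refine (closure_le _).2 ?_
      rintro x ⟨a, ha, rfl⟩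
      refine mem_centralizer_singleton_iff.2 ?_
      have h2 := hAc a ha b hbA
      have h3 : a⁻¹ * b = b * a⁻¹ := by
        calc a⁻¹ * b = a⁻¹ * (b * a) * a⁻¹ := by group
          _ = a⁻¹ * (a * b) * a⁻¹ := by rw [h2]
          _ = b * a⁻¹ := by group
      calc a * n * a⁻¹ * b = a * (n * (a⁻¹ * b)) := by group
        _ = a * (n * b) * a⁻¹ := by rw [h3]; group
        _ = (a * b) * n * a⁻¹ := by rw [← hbn]; group
        _ = b * (a * n * a⁻¹) := by rw [h2]; group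
    refine mem_centralizer_iff.2 fun x hx => ?_
    exact mem_centralizer_singleton_iff.1 (h1 hx)
  -- (i) `|C : C_C(X)| ≤ |y|`, `C = A_b N`
  set C : Subgroup G := (A ⊓ centralizer (N : Set G)) ⊔ N with hCd
  have hNX : N ≤ centralizer (X : Set G) := (comm_symm hFN).trans (centralizer_le hXF)
  have hCdec : ∀ d ∈ C, ∃ a ∈ A, a ∈ centralizer (N : Set G) ∧ a⁻¹ * d ∈ centralizer (X : Set G) := by
    intro d hd
    rw [hCd, sup_comm] at hd
    obtain ⟨m, hm, a, ha, rfl⟩ := OM.KTwo.exists_mul_of_mem_sup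
      ((inf_le_right : A ⊓ centralizer (N : Set G) ≤ _).trans (centralizer_le_normalizer _)) hd
    refine ⟨a, ha.1, ha.2, ?_⟩
    have e : a⁻¹ * (m * a) = m := by
      have e0 : m * a = a * m := mem_centralizer_iff.1 ha.2 m hm
      rw [e0]; group
    rw [e]
    exact hNX hm
  choose! g hgA hgN hgX using hCdec
  have h1 : (centralizer (X : Set G)).relIndex C ≤ Nat.card y := by
    refine relIndex_le_of (fun d => n * g d * n⁻¹ * (g d)⁻¹) (fun d hd => hb _ (hgA d hd) (hgN d hd)) ?_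
    intro d hd d' hd' e
    have e' : n * g d * n⁻¹ * (g d)⁻¹ = n * g d' * n⁻¹ * (g d')⁻¹ := e
    have h2 : (g d)⁻¹ * g d' ∈ centralizer (X : Set G) := by
      refine hnX _ (mul_mem (inv_mem (hgA d hd)) (hgA d' hd')) ?_
      have h3 : g d * n⁻¹ * (g d)⁻¹ = g d' * n⁻¹ * (g d')⁻¹ := by
        have h4 : n * (g d * n⁻¹ * (g d)⁻¹) = n * (g d' * n⁻¹ * (g d')⁻¹) := by
          rw [← mul_assoc, ← mul_assoc, ← mul_assoc, ← mul_assoc]; exact e'
        exact mul_left_cancel h4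
      have h5 : g d * n * (g d)⁻¹ = g d' * n * (g d')⁻¹ := by
        have h6 := congrArg (·⁻¹) h3
        simp only [mul_inv_rev, inv_inv] at h6
        simpa [mul_assoc] using h6
      have h6 : n = (g d)⁻¹ * g d' * n * ((g d)⁻¹ * g d')⁻¹ := by
        calc n = (g d)⁻¹ * (g d * n * (g d)⁻¹) * g d := by group
          _ = (g d)⁻¹ * (g d' * n * (g d')⁻¹) * g d := by rw [h5]
          _ = _ := by group
      exact (mul_inv_eq_iff_eq_mul.1 h6.symm)
    have h3 : d⁻¹ * d' = ((g d)⁻¹ * d)⁻¹ * ((g d)⁻¹ * g d') * ((g d')⁻¹ * d') := by group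
    rw [h3]
    exact mul_mem (mul_mem (inv_mem (hgX d hd)) h2) (hgX d' hd')
  -- (ii) `|X : C_X(C)| ≤ |y|`
  have h2 : (centralizer (C : Set G)).relIndex X ≤ Nat.card y := (TC.off hXe (hXF.trans hFO) hC).trans h1
  -- (iii) `M = ⟨u^A⟩ ≤ [X, c]`
  let M : Subgroup G := closure {x | ∃ a ∈ A, x = a * u * a⁻¹}
  have hκ : ∀ x ∈ X, x * c * x⁻¹ * c⁻¹ ∈ F := by
    intro x hx
    have e : x * c * x⁻¹ * c⁻¹ = x * (c * x⁻¹ * c⁻¹) := by group
    rw [e]
    exact mul_mem (hXF hx) (hAF c hc _ (inv_mem (hXF hx)))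
  have hMim : ∀ z ∈ M, ∃ x ∈ X, x * c * x⁻¹ * c⁻¹ = z := by
    intro z hz
    induction hz using closure_induction with
    | mem z hz =>
      obtain ⟨a, ha, rfl⟩ := hz
      refine ⟨_, hgen a ha, ?_⟩
      have e1 : a⁻¹ * c = c * a⁻¹ := by
        have h3 := hAc a ha c hc
        calc a⁻¹ * c = a⁻¹ * (c * a) * a⁻¹ := by group
          _ = a⁻¹ * (a * c) * a⁻¹ := by rw [h3]
          _ = c * a⁻¹ := by group
      have e2 : a⁻¹ * c⁻¹ = c⁻¹ * a⁻¹ := by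
        have h3 := hAc c hc a ha
        calc a⁻¹ * c⁻¹ = (c * a)⁻¹ := by group
          _ = (a * c)⁻¹ := by rw [h3]
          _ = c⁻¹ * a⁻¹ := by group
      calc a * n * a⁻¹ * c * (a * n * a⁻¹)⁻¹ * c⁻¹ = a * n * (a⁻¹ * c) * a * n⁻¹ * (a⁻¹ * c⁻¹) := by group
        _ = a * n * (c * a⁻¹) * a * n⁻¹ * (c⁻¹ * a⁻¹) := by rw [e1, e2]
        _ = a * u * a⁻¹ := by rw [hu]; group
    | one => exact ⟨1, one_mem _, by group⟩
    | mul z w hz hw hz' hw' =>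
      obtain ⟨x, hx, rfl⟩ := hz'
      obtain ⟨x', hx', rfl⟩ := hw'
      refine ⟨x * x', mul_mem hx hx', ?_⟩
      have e := hFc x (hXF hx) _ (hκ x' hx')
      have e' := hFc _ (hκ x hx) _ (hκ x' hx')
      calc x * x' * c * (x * x')⁻¹ * c⁻¹ = x * (x' * c * x'⁻¹ * c⁻¹) * (c * x⁻¹ * c⁻¹) := by group
        _ = (x' * c * x'⁻¹ * c⁻¹) * (x * c * x⁻¹ * c⁻¹) := by rw [e]; group
        _ = _ := e'.symm
    | inv z hz hz' =>
      obtain ⟨x, hx, rfl⟩ := hz'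
      refine ⟨x⁻¹, inv_mem hx, ?_⟩
      have e := hFc x (hXF hx) _ (inv_mem (hκ x hx))
      calc x⁻¹ * c * x⁻¹⁻¹ * c⁻¹ = x⁻¹ * (x * c * x⁻¹ * c⁻¹)⁻¹ * x := by group
        _ = x⁻¹ * (x * (x * c * x⁻¹ * c⁻¹)⁻¹) := by rw [e]; group
        _ = _ := by group
  have h3 : Nat.card M ≤ (centralizer (C : Set G)).relIndex X := by
    refine le_relIndex_of (fun x => x * c * x⁻¹ * c⁻¹) hMim ?_
    intro x hx x' hx' hxx
    have hcC : c ∈ C := (le_sup_left : _ ≤ C) ⟨hc, hcN⟩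
    have h4 : c * (x⁻¹ * x') = x⁻¹ * x' * c := mem_centralizer_iff.1 hxx c hcC
    have h5 : x' = x * (x⁻¹ * x') := by group
    change x * c * x⁻¹ * c⁻¹ = x' * c * x'⁻¹ * c⁻¹
    calc x * c * x⁻¹ * c⁻¹ = x * ((x⁻¹ * x') * c * (x⁻¹ * x')⁻¹) * x⁻¹ * c⁻¹ := by rw [← h4]; group
      _ = x' * c * x'⁻¹ * c⁻¹ := by group
  -- (iv) `|M| ≥ 2 |M ∩ N|`, `|M ∩ N| ≥ |A : C_A(y)| ≥ |y|`
  have huM : ∀ a ∈ A, a * u * a⁻¹ ∈ M := fun a ha => subset_closure ⟨a, ha, rfl⟩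
  have huM1 : u ∈ M := by have := huM 1 (one_mem _); simpa using this
  have h4 : (centralizer (y : Set G)).relIndex A ≤ Nat.card (M ⊓ N : Subgroup G) := by
    refine relIndex_le_of (fun a => a * u * a⁻¹ * u⁻¹)
      (fun a ha => mem_inf.2 ⟨mul_mem (huM a ha) (inv_mem huM1), hyA a ha u huy⟩) ?_
    intro a ha a' ha' e
    have e' : a * u * a⁻¹ = a' * u * a'⁻¹ := mul_right_cancel e
    refine hst u huy hu1 _ (mul_mem (inv_mem ha) ha') ?_
    have h6 : u = a⁻¹ * a' * u * (a⁻¹ * a')⁻¹ := by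
      calc u = a⁻¹ * (a * u * a⁻¹) * a := by group
        _ = a⁻¹ * (a' * u * a'⁻¹) * a := by rw [e']
        _ = _ := by group
    exact mul_inv_eq_iff_eq_mul.1 h6.symm
  have h5 := card_mul_relIndex (inf_le_left : M ⊓ N ≤ M)
  have h6 : 2 ≤ (M ⊓ N).relIndex M := by
    have h7 := rix_ne (M ⊓ N) M
    by_contra h8
    have h9 : (M ⊓ N).relIndex M = 1 := by omega
    exact huN (relIndex_eq_one.1 h9 huM1).2
  have h7 := card_le_relIndex hA (eab_mono hF hyF) (hyF.trans hFO) hst hmv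
  have h8 : 0 < Nat.card y := Nat.card_pos
  have h9 : Nat.card (M ⊓ N : Subgroup G) * 2 ≤ Nat.card M := by
    rw [← h5]
    exact Nat.mul_le_mul_left _ h6
  omega

end Cfsg.Agent.Omega.TCQ.Cnt
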